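import Groth.Agent.ResProp.EF.K473.CoreC
import Groth.Agent.ResProp.EF.X56.Iface

/-!
# Absolute approximation: the node `StmtCore`
-/

set_option autoImplicit false
set_option linter.dupNamespace false

open K784.BC

namespace EF473

universe u

theorem stmtCore : EF56.StmtCore.{u} := by
  intro A Γ Γ₂ _ _ _ s t e ι p q m hes het hιs hpo hms hmt A₀ Γ₀ h hft0 hfl hft hpo0
  exact core s t e ι p q m hes het hιs hpo hms hmt A₀ Γ₀ h hft0 hfl hft hpo0

end EF473
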