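import Groth.Agent.ResProp.EF.X56.NF
import Mathlib.RingTheory.Flat.Basic

/-!
# Absolute approximation: the core (node `StmtCore`)
-/

set_option autoImplicit false
set_option linter.dupNamespace false
set_option linter.style.haveILetI false

open TensorProduct CategoryTheory CategoryTheory.Limits
open K784.BC

namespace EF473

universe u

/-- a pushout square as a tensor product -/
theorem po_tensor {R R' A B : Type u} [CommRing R] [CommRing R'] [CommRing A] [CommRing B] {ρ : R →+* R'}
    {α : R →+* A} {β : R' →+* B} {φ : A →+* B} (h : IsPO ρ α β φ) :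
    letI := ρ.toAlgebra; letI := α.toAlgebra
    ∃ e : (R' ⊗[R] A) ≃+ B, ∀ (x : R') (a : A), e (x ⊗ₜ[R] a) = β x * φ a := by
  letI := ρ.toAlgebra; letI := α.toAlgebra
  have h1 := h.alg
  letI := φ.toAlgebra; letI := β.toAlgebra
  letI := (φ.comp α).toAlgebra
  haveI : IsScalarTower R A B := IsScalarTower.of_algebraMap_eq fun _ => rfl
  haveI : IsScalarTower R R' B := IsScalarTower.of_algebraMap_eq fun r => congr($(h.comm.symm) r)
  have h2 : Algebra.IsPushout R R' A B := h1
  have h3 := h2.out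
  refine ⟨h3.equiv.toAddEquiv, fun x a => ?_⟩
  have h4 := h3.equiv_tmul x a
  exact h4

/-- flatness: a tensor which goes into the image of a submodule comes from the preimage -/
theorem flat_comap {R M P G : Type u} [CommRing R] [AddCommGroup M] [AddCommGroup P] [AddCommGroup G] [Module R M]
    [Module R P] [Module R G] [Module.Flat R G] (τ : M →ₗ[R] P) (N : Submodule R P) (x : M ⊗[R] G)
    (hx : τ.rTensor G x ∈ LinearMap.range (N.subtype.rTensor G)) :
    x ∈ LinearMap.range ((N.comap τ).subtype.rTensor G) := by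
  have h1 : Function.Exact (N.comap τ).subtype (N.mkQ.comp τ) := by
    intro m
    simp
  have h2 := Module.Flat.rTensor_exact G h1
  refine (h2 x).1 ?_
  rw [LinearMap.rTensor_comp, LinearMap.comp_apply]
  obtain ⟨y, hy⟩ := hx
  rw [← hy, ← LinearMap.comp_apply, ← LinearMap.rTensor_comp]
  have : N.mkQ.comp N.subtype = 0 := by
    ext n
    simp
  rw [this, LinearMap.rTensor_zero, LinearMap.zero_apply]

/-- the key step `t(F') ⊂ F'.Γ₀` -/
theorem key {A₀ A Γ₀ Γ Γ₂ : Type u} [CommRing A₀] [CommRing A] [CommRing Γ₀] [CommRing Γ] [CommRing Γ₂]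
    {i : A₀ →+* A} {s₀ : A₀ →+* Γ₀} {s : A →+* Γ} {j : Γ₀ →+* Γ} {t : A →+* Γ} {p q : Γ →+* Γ₂}
    (h1 : IsPO i s₀ s j) (h2 : IsPO t s p q) (hfl : s₀.Flat) (N : AddSubgroup Γ)
    (hN : ∀ (a : A₀), ∀ n ∈ N, t (i a) * n ∈ N) (x : Γ)
    (hx : q x ∈ AddSubgroup.closure {z | ∃ n ∈ N, ∃ g : Γ₀, z = p n * q (j g)}) :
    x ∈ AddSubgroup.closure {z | ∃ f : A, t f ∈ N ∧ ∃ g : Γ₀, z = s f * j g} := by
  have h3 : IsPO (t.comp i) s₀ p (q.comp j) := IsPushout.paste_horiz h1 h2
  obtain ⟨e1, he1⟩ := po_tensor h1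
  obtain ⟨e2, he2⟩ := po_tensor h3
  letI := i.toAlgebra
  letI := s₀.toAlgebra
  letI : Algebra A₀ Γ := (t.comp i).toAlgebra
  haveI : Module.Flat A₀ Γ₀ := hfl
  let N' : Submodule A₀ Γ :=
    { N with
      smul_mem' := fun a n hn => hN a n hn }
  let τ : A →ₗ[A₀] Γ :=
    { toFun := t
      map_add' := map_add t
      map_smul' := fun a b => by
        change t (i a * b) = t (i a) * t b
        rw [map_mul] }
  have h4 : ∀ y : A ⊗[A₀] Γ₀, e2 (τ.rTensor Γ₀ y) = q (e1 y) := by
    intro y
    induction y with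
    | zero => simp
    | tmul a g =>
      rw [LinearMap.rTensor_tmul, he2, he1, map_mul]
      have : p (t a) = q (s a) := congr($(h2.comm) a)
      change p (t a) * q (j g) = _
      rw [this]
    | add y z hy hz => rw [map_add, map_add, map_add, map_add, hy, hz]
  have h5 : ∀ z ∈ AddSubgroup.closure {z | ∃ n ∈ N, ∃ g : Γ₀, z = p n * q (j g)},
      e2.symm z ∈ LinearMap.range (N'.subtype.rTensor Γ₀) := by
    intro z hz
    induction hz using AddSubgroup.closure_induction with
    | mem z hz =>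
      obtain ⟨n, hn, g, rfl⟩ := hz
      refine ⟨(⟨n, hn⟩ : N') ⊗ₜ[A₀] g, ?_⟩
      rw [LinearMap.rTensor_tmul]
      apply e2.injective
      rw [he2, AddEquiv.apply_symm_apply]
      rfl
    | zero => rw [map_zero]; exact Submodule.zero_mem _
    | add y z _ _ hy hz => rw [map_add]; exact Submodule.add_mem _ hy hz
    | neg y _ hy => rw [map_neg]; exact Submodule.neg_mem _ hy
  have h6 : τ.rTensor Γ₀ (e1.symm x) ∈ LinearMap.range (N'.subtype.rTensor Γ₀) := by
    have := h5 _ hx
    rwa [← e1.apply_symm_apply x, ← h4, AddEquiv.symm_apply_apply] at this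
  obtain ⟨y, hy⟩ := flat_comap τ N' _ h6
  have h7 : x = e1 ((N'.comap τ).subtype.rTensor Γ₀ y) := by rw [hy, AddEquiv.apply_symm_apply]
  rw [h7]
  clear h7 hy h6
  induction y with
  | zero => simp
  | tmul f g =>
    rw [LinearMap.rTensor_tmul, he1]
    exact AddSubgroup.subset_closure ⟨f.1, f.2, g, rfl⟩
  | add y z hy hz => rw [map_add, map_add]; exact AddSubgroup.add_mem _ hy hz

end EF473
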