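import Groth.Agent.ResProp.EF.K473.CoreA
import Mathlib.RingTheory.FiniteType
import Mathlib.RingTheory.RingHom.FiniteType

/-!
# Absolute approximation: the core (node `StmtCore`), plain form
-/

set_option autoImplicit false
set_option linter.dupNamespace false
set_option linter.style.haveILetI false

open TensorProduct CategoryTheory CategoryTheory.Limits
open K784.BC

namespace EF473

universe u

/-! ### Subrings of finite type -/

theorem ft_closure {A : Type u} [CommRing A] {X : Set A} (hX : X.Finite) :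
    (Int.castRingHom (Subring.closure X)).FiniteType := by
  rw [← algebraMap_int_eq, RingHom.finiteType_algebraMap]
  refine ⟨Subalgebra.fg_def.2 ⟨Set.range (fun x : X => (⟨x.1, Subring.subset_closure x.2⟩ : Subring.closure X)), ?_, ?_⟩⟩
  · haveI := hX.to_subtype
    exact Set.finite_range _
  · rw [eq_top_iff]
    rintro ⟨x, hx⟩ -
    induction hx using Subring.closure_induction with
    | mem x hx => exact Algebra.subset_adjoin ⟨⟨x, hx⟩, rfl⟩
    | zero => exact Subalgebra.zero_mem _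
    | one => exact Subalgebra.one_mem _
    | add x y _ _ hx hy => exact Subalgebra.add_mem _ hx hy
    | neg x _ hx => exact Subalgebra.neg_mem _ hx
    | mul x y _ _ hx hy => exact Subalgebra.mul_mem _ hx hy

theorem exists_closure {A : Type u} [CommRing A] (S : Subring A) (hS : (Int.castRingHom S).FiniteType) :
    ∃ X : Set A, X.Finite ∧ S = Subring.closure X := by
  rw [← algebraMap_int_eq, RingHom.finiteType_algebraMap] at hS
  obtain ⟨Y, hY⟩ := hS.out
  refine ⟨Subtype.val '' (Y : Set S), Y.finite_toSet.image _, le_antisymm ?_ ?_⟩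
  · intro x hx
    have h1 : (⟨x, hx⟩ : S) ∈ Algebra.adjoin ℤ (Y : Set S) := by rw [hY]; trivial
    have h2 : ∀ z : S, z ∈ Algebra.adjoin ℤ (Y : Set S) → (z : A) ∈ Subring.closure (Subtype.val '' (Y : Set S)) := by
      intro z hz
      induction hz using Algebra.adjoin_induction with
      | mem z hz => exact Subring.subset_closure ⟨z, hz, rfl⟩
      | algebraMap n =>
        rw [algebraMap_int_eq, eq_intCast, Subring.coe_intCast]
        exact intCast_mem _ n
      | add x y _ _ hx hy => exact Subring.add_mem _ hx hy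
      | mul x y _ _ hx hy => exact Subring.mul_mem _ hx hy
    exact h2 _ h1
  · rw [Subring.closure_le]
    rintro _ ⟨z, -, rfl⟩
    exact z.2

/-- a ring map of finite type from a subring -/
theorem exists_gen {A₀ Γ : Type u} [CommRing A₀] [CommRing Γ] (Γ₀ : Subring Γ) (s₀ : A₀ →+* Γ₀) (hs : s₀.FiniteType) :
    ∃ Y : Set Γ, Y.Finite ∧ Y ⊆ Γ₀ ∧ Γ₀ ≤ Subring.closure (Set.range (fun a => (s₀ a : Γ)) ∪ Y) := by
  letI := s₀.toAlgebra
  have hs' : Algebra.FiniteType A₀ Γ₀ := hs
  obtain ⟨Y, hY⟩ := hs'.out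
  refine ⟨Subtype.val '' (Y : Set Γ₀), Y.finite_toSet.image _, ?_, ?_⟩
  · rintro _ ⟨z, -, rfl⟩
    exact z.2
  · intro x hx
    have h1 : (⟨x, hx⟩ : Γ₀) ∈ Algebra.adjoin A₀ (Y : Set Γ₀) := by rw [hY]; trivial
    have h2 : ∀ z : Γ₀, z ∈ Algebra.adjoin A₀ (Y : Set Γ₀) →
        (z : Γ) ∈ Subring.closure (Set.range (fun a => (s₀ a : Γ)) ∪ Subtype.val '' (Y : Set Γ₀)) := by
      intro z hz
      induction hz using Algebra.adjoin_induction with
      | mem z hz => exact Subring.subset_closure (Or.inr ⟨z, hz, rfl⟩)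
      | algebraMap n => exact Subring.subset_closure (Or.inl ⟨n, rfl⟩)
      | add x y _ _ hx hy => exact Subring.add_mem _ hx hy
      | mul x y _ _ hx hy => exact Subring.mul_mem _ hx hy
    exact h2 _ h1

theorem fin_unif {ι A : Type*} {Z : Set ι} (hZ : Z.Finite) (P : ι → Set A → Prop)
    (mono : ∀ z F F', F ⊆ F' → P z F → P z F') (ex : ∀ z, ∃ F : Set A, F.Finite ∧ P z F) :
    ∃ F : Set A, F.Finite ∧ ∀ z ∈ Z, P z F := by
  choose F hF hP using ex
  exact ⟨⋃ z ∈ Z, F z, hZ.biUnion fun z _ => hF z, fun z hz =>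
    mono z _ _ (Set.subset_biUnion_of_mem hz) (hP z)⟩

section

variable {A Γ Γ₂ : Type u} [CommRing A] [CommRing Γ] [CommRing Γ₂] (s t : A →+* Γ) (p q m : Γ →+* Γ₂)
  (Γ₀ : Subring Γ)

/-- `F . Γ₀` -/
def sp (F : Set A) : AddSubgroup Γ := AddSubgroup.closure {z | ∃ f ∈ F, ∃ g ∈ Γ₀, z = s f * g}

/-- the ring `B . Γ₀` -/
def GB (F : Set A) : Subring Γ := Subring.closure (s '' F ∪ Γ₀)

/-- the ring generated by `p(B . Γ₀)` and `q(Γ₀)` -/
def R2 (F : Set A) : Subring Γ₂ := Subring.closure (p '' (GB s Γ₀ F) ∪ q '' Γ₀)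

variable {s t p q m Γ₀}

theorem sp_mono {F F' : Set A} (h : F ⊆ F') : sp s Γ₀ F ≤ sp s Γ₀ F' :=
  AddSubgroup.closure_mono fun _ ⟨f, hf, g, hg, e⟩ => ⟨f, h hf, g, hg, e⟩

theorem GB_mono {F F' : Set A} (h : F ⊆ F') : GB s Γ₀ F ≤ GB s Γ₀ F' :=
  Subring.closure_mono (Set.union_subset_union_left _ (Set.image_mono h))

theorem R2_mono {F F' : Set A} (h : F ⊆ F') : R2 s p q Γ₀ F ≤ R2 s p q Γ₀ F' :=
  Subring.closure_mono (Set.union_subset_union_left _ (Set.image_mono (GB_mono h)))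

theorem sp_le_GB (F : Set A) {x : Γ} (hx : x ∈ sp s Γ₀ F) : x ∈ GB s Γ₀ F := by
  induction hx using AddSubgroup.closure_induction with
  | mem z hz =>
    obtain ⟨f, hf, g, hg, rfl⟩ := hz
    exact Subring.mul_mem _ (Subring.subset_closure (Or.inl ⟨f, hf, rfl⟩)) (Subring.subset_closure (Or.inr hg))
  | zero => exact Subring.zero_mem _
  | add y z _ _ hy hz => exact Subring.add_mem _ hy hz
  | neg y _ hy => exact Subring.neg_mem _ hy

/-- stability of `F . Γ₀` under `B . Γ₀` -/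
theorem GB_mul_sp {B : Subring A} {F : Set A} (hF : ∀ b ∈ B, ∀ f ∈ F, b * f ∈ F) {x y : Γ}
    (hx : x ∈ GB s Γ₀ (B : Set A)) (hy : y ∈ sp s Γ₀ F) : x * y ∈ sp s Γ₀ F := by
  induction hx using Subring.closure_induction generalizing y with
  | mem x hx =>
    induction hy using AddSubgroup.closure_induction with
    | mem z hz =>
      obtain ⟨f, hf, g, hg, rfl⟩ := hz
      rcases hx with ⟨b, hb, rfl⟩ | hx
      · refine AddSubgroup.subset_closure ⟨b * f, hF b hb f hf, g, hg, ?_⟩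
        rw [map_mul, mul_assoc]
      · refine AddSubgroup.subset_closure ⟨f, hf, x * g, Γ₀.mul_mem hx hg, ?_⟩
        ring
    | zero => rw [mul_zero]; exact AddSubgroup.zero_mem _
    | add y z _ _ hy hz => rw [mul_add]; exact AddSubgroup.add_mem _ hy hz
    | neg y _ hy => rw [mul_neg]; exact AddSubgroup.neg_mem _ hy
  | zero => rw [zero_mul]; exact AddSubgroup.zero_mem _
  | one => rwa [one_mul]
  | add x x' _ _ hx hx' => rw [add_mul]; exact AddSubgroup.add_mem _ (hx hy) (hx' hy)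
  | neg x _ hx => rw [neg_mul]; exact AddSubgroup.neg_mem _ (hx hy)
  | mul x x' _ _ hx hx' => rw [mul_assoc]; exact hx (hx' hy)

/-- every element of `Γ` is in some `F . Γ₀`, `F` finite -/
theorem exists_sp {A₀ : Type u} [CommRing A₀] {i : A₀ →+* A} {s₀ : A₀ →+* Γ₀} (h1 : IsPO i s₀ s Γ₀.subtype) (x : Γ) :
    ∃ F : Set A, F.Finite ∧ x ∈ sp s Γ₀ F := by
  obtain ⟨e1, he1⟩ := po_tensor h1
  letI := i.toAlgebra
  letI := s₀.toAlgebra
  obtain ⟨y, rfl⟩ := e1.surjective x
  induction y with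
  | zero => exact ⟨∅, Set.finite_empty, by rw [map_zero]; exact AddSubgroup.zero_mem _⟩
  | tmul a g =>
    refine ⟨{a}, Set.finite_singleton a, ?_⟩
    rw [he1]
    exact AddSubgroup.subset_closure ⟨a, rfl, g.1, g.2, rfl⟩
  | add y z hy hz =>
    obtain ⟨F, hF, h⟩ := hy
    obtain ⟨F', hF', h'⟩ := hz
    refine ⟨F ∪ F', hF.union hF', ?_⟩
    rw [map_add]
    exact AddSubgroup.add_mem _ (sp_mono Set.subset_union_left h) (sp_mono Set.subset_union_right h')

theorem exists_R2 {A₀ : Type u} [CommRing A₀] {i : A₀ →+* A} {s₀ : A₀ →+* Γ₀} (h1 : IsPO i s₀ s Γ₀.subtype)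
    (h2 : IsPO t s p q) (z : Γ₂) : ∃ F : Set A, F.Finite ∧ z ∈ R2 s p q Γ₀ F := by
  have hpq : ∀ a, q (s a) = p (t a) := fun a => congr($(h2.comm.symm) a)
  have h3 : ∀ x y : Γ, ∃ F : Set A, F.Finite ∧ p x * q y ∈ R2 s p q Γ₀ F := by
    intro x y
    obtain ⟨G, -, hG⟩ := exists_sp h1 y
    induction hG using AddSubgroup.closure_induction with
    | mem y hy =>
      obtain ⟨a, -, g, hg, rfl⟩ := hy
      obtain ⟨F, hF, h⟩ := exists_sp h1 (x * t a)
      refine ⟨F, hF, ?_⟩
      have : p x * q (s a * g) = p (x * t a) * q g := by rw [map_mul, map_mul, hpq, mul_assoc]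
      rw [this]
      exact Subring.mul_mem _ (Subring.subset_closure (Or.inl ⟨_, sp_le_GB F h, rfl⟩))
        (Subring.subset_closure (Or.inr ⟨g, hg, rfl⟩))
    | zero => exact ⟨∅, Set.finite_empty, by rw [map_zero, mul_zero]; exact Subring.zero_mem _⟩
    | add y z _ _ hy hz =>
      obtain ⟨F, hF, h⟩ := hy
      obtain ⟨F', hF', h'⟩ := hz
      refine ⟨F ∪ F', hF.union hF', ?_⟩
      rw [map_add, mul_add]
      exact Subring.add_mem _ (R2_mono Set.subset_union_left h) (R2_mono Set.subset_union_right h')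
    | neg y _ hy =>
      obtain ⟨F, hF, h⟩ := hy
      exact ⟨F, hF, by rw [map_neg, mul_neg]; exact Subring.neg_mem _ h⟩
  obtain ⟨e2, he2⟩ := po_tensor h2
  letI := t.toAlgebra
  letI := s.toAlgebra
  obtain ⟨y, rfl⟩ := e2.surjective z
  induction y with
  | zero => exact ⟨∅, Set.finite_empty, by rw [map_zero]; exact Subring.zero_mem _⟩
  | tmul x y => rw [he2]; exact h3 x y
  | add y z hy hz =>
    obtain ⟨F, hF, h⟩ := hy
    obtain ⟨F', hF', h'⟩ := hz
    refine ⟨F ∪ F', hF.union hF', ?_⟩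
    rw [map_add]
    exact Subring.add_mem _ (R2_mono Set.subset_union_left h) (R2_mono Set.subset_union_right h')

end

end EF473
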