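import Groth.Agent.ResProp.EF.K473.CoreB
import Mathlib.RingTheory.FiniteType
import Mathlib.RingTheory.Noetherian.Basic

/-!
# Absolute approximation: the core (node `StmtCore`), the main argument
-/

set_option autoImplicit false
set_option linter.dupNamespace false
set_option linter.style.haveILetI false

open TensorProduct CategoryTheory CategoryTheory.Limits
open K784.BC

namespace EF473

universe u

theorem core {A Γ Γ₂ : Type u} [CommRing A] [CommRing Γ] [CommRing Γ₂] (s t : A →+* Γ) (e : Γ →+* A)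
    (ι : Γ →+* Γ) (p q m : Γ →+* Γ₂) (hes : e.comp s = RingHom.id A) (het : e.comp t = RingHom.id A)
    (hιs : ι.comp s = t) (hpo : IsPO t s p q) (hms : m.comp s = p.comp s) (hmt : m.comp t = q.comp t)
    (A₀ : Subring A) (Γ₀ : Subring Γ) (h : ∀ a : A₀, s a ∈ Γ₀) (hft0 : (Int.castRingHom A₀).FiniteType)
    (hfl : ((s.comp A₀.subtype).codRestrict Γ₀ h).Flat)
    (hft : ((s.comp A₀.subtype).codRestrict Γ₀ h).FiniteType)
    (hpo0 : IsPO A₀.subtype ((s.comp A₀.subtype).codRestrict Γ₀ h) s Γ₀.subtype) :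
      ∃ B : Subring A, A₀ ≤ B ∧ (Int.castRingHom B).FiniteType ∧
        (∀ b ∈ B, t b ∈ GB s Γ₀ (B : Set A)) ∧
        (∀ g ∈ GB s Γ₀ (B : Set A), e g ∈ B) ∧
        (∀ g ∈ GB s Γ₀ (B : Set A), ι g ∈ GB s Γ₀ (B : Set A)) ∧
        (∀ g ∈ GB s Γ₀ (B : Set A), m g ∈
          Subring.closure (p '' (GB s Γ₀ (B : Set A)) ∪ q '' (GB s Γ₀ (B : Set A)))) := by
  have hes' : ∀ a, e (s a) = a := fun a => congr($hes a)
  have het' : ∀ a, e (t a) = a := fun a => congr($het a)
  have hιs' : ∀ a, ι (s a) = t a := fun a => congr($hιs a)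
  have hms' : ∀ a, m (s a) = p (s a) := fun a => congr($hms a)
  have hmt' : ∀ a, m (t a) = q (t a) := fun a => congr($hmt a)
  obtain ⟨X₀, hX₀, hA₀⟩ := exists_closure A₀ hft0
  obtain ⟨Y₀, hY₀, -, hΓ₀⟩ := exists_gen Γ₀ _ hft
  -- the finite set
  obtain ⟨F₁, hF₁, h₁⟩ := fin_unif hX₀ (fun a F => t a ∈ sp s Γ₀ F) (fun _ _ _ hh h' => sp_mono hh h')
    (fun a => exists_sp hpo0 (t a))
  obtain ⟨F₂, hF₂, h₂⟩ := fin_unif hY₀ (fun y F => ι y ∈ sp s Γ₀ F) (fun _ _ _ hh h' => sp_mono hh h')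
    (fun a => exists_sp hpo0 (ι a))
  obtain ⟨F₃, hF₃, h₃⟩ := fin_unif hY₀ (fun y F => m y ∈ R2 s p q Γ₀ F) (fun _ _ _ hh h' => R2_mono hh h')
    (fun y => exists_R2 hpo0 hpo (m y))
  let X₁ : Set A := X₀ ∪ (F₁ ∪ (F₂ ∪ (F₃ ∪ e '' Y₀)))
  have hX₁ : X₁.Finite := hX₀.union (hF₁.union (hF₂.union (hF₃.union (hY₀.image _))))
  let B₁ : Subring A := Subring.closure X₁
  have hXB : X₁ ⊆ (B₁ : Set A) := Subring.subset_closure
  have hAB : A₀ ≤ B₁ := by rw [hA₀]; exact Subring.closure_mono Set.subset_union_left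
  have hF₁B : F₁ ⊆ (B₁ : Set A) := fun x hx => hXB (Or.inr (Or.inl hx))
  have hF₂B : F₂ ⊆ (B₁ : Set A) := fun x hx => hXB (Or.inr (Or.inr (Or.inl hx)))
  have hF₃B : F₃ ⊆ (B₁ : Set A) := fun x hx => hXB (Or.inr (Or.inr (Or.inr (Or.inl hx))))
  have hYB : ∀ y ∈ Y₀, e y ∈ B₁ := fun y hy => hXB (Or.inr (Or.inr (Or.inr (Or.inr ⟨y, hy, rfl⟩))))
  have htA : ∀ a ∈ A₀, t a ∈ GB s Γ₀ (B₁ : Set A) := by
    intro a ha
    rw [hA₀] at ha
    induction ha using Subring.closure_induction with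
    | mem a ha => exact GB_mono hF₁B (sp_le_GB _ (h₁ a ha))
    | zero => rw [map_zero]; exact Subring.zero_mem _
    | one => rw [map_one]; exact Subring.one_mem _
    | add x y _ _ hx hy => rw [map_add]; exact Subring.add_mem _ hx hy
    | neg x _ hx => rw [map_neg]; exact Subring.neg_mem _ hx
    | mul x y _ _ hx hy => rw [map_mul]; exact Subring.mul_mem _ hx hy
  -- an induction principle for `Γ₀`
  have ind : ∀ {T : Type u} [CommRing T] (φ : Γ →+* T) (T' : Subring T), (∀ a ∈ A₀, φ (s a) ∈ T') →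
      (∀ y ∈ Y₀, φ y ∈ T') → ∀ g ∈ Γ₀, φ g ∈ T' := by
    intro T _ φ T' ha hy g hg
    have h1 : Subring.closure (Set.range (fun a => (((s.comp A₀.subtype).codRestrict Γ₀ h) a : Γ)) ∪ Y₀) ≤
        T'.comap φ := by
      rw [Subring.closure_le]
      rintro x (⟨a, rfl⟩ | hx)
      · exact ha a.1 a.2
      · exact hy x hx
    exact h1 (hΓ₀ hg)
  have heΓ : ∀ g ∈ Γ₀, e g ∈ B₁ := ind e B₁ (fun a ha => by rw [hes']; exact hAB ha) hYB
  have hιΓ : ∀ g ∈ Γ₀, ι g ∈ GB s Γ₀ (B₁ : Set A) :=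
    ind ι _ (fun a ha => by rw [hιs']; exact htA a ha) (fun y hy => GB_mono hF₂B (sp_le_GB _ (h₂ y hy)))
  have hmΓ : ∀ g ∈ Γ₀, m g ∈ R2 s p q Γ₀ (B₁ : Set A) :=
    ind m _ (fun a ha => by
      rw [hms']
      exact Subring.subset_closure (Or.inl ⟨s a, Subring.subset_closure (Or.inl ⟨a, hAB ha, rfl⟩), rfl⟩))
      (fun y hy => R2_mono hF₃B (h₃ y hy))
  -- the finite module
  obtain ⟨F₄, hF₄, h₄⟩ := fin_unif hX₁ (fun a F => t a ∈ sp s Γ₀ F) (fun _ _ _ hh h' => sp_mono hh h')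
    (fun a => exists_sp hpo0 (t a))
  let F : Submodule B₁ A := Submodule.span B₁ (F₄ ∪ {1})
  have hFfg : F.FG := Submodule.fg_span (hF₄.union (Set.finite_singleton 1))
  have h1F : (1 : A) ∈ F := Submodule.subset_span (Or.inr rfl)
  have hFstab : ∀ b ∈ B₁, ∀ f ∈ (F : Set A), b * f ∈ (F : Set A) := fun b hb f hf =>
    F.smul_mem (⟨b, hb⟩ : B₁) hf
  let N : AddSubgroup Γ := sp s Γ₀ (F : Set A)
  have hXN : ∀ b ∈ X₁, t b ∈ N := fun b hb =>
    sp_mono (fun x hx => Submodule.subset_span (Or.inl hx)) (h₄ b hb)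
  have hNstab : ∀ x ∈ GB s Γ₀ (B₁ : Set A), ∀ y ∈ N, x * y ∈ N := fun x hx y hy => GB_mul_sp hFstab hx hy
  have heN : ∀ y ∈ N, e y ∈ F := by
    intro y hy
    induction hy using AddSubgroup.closure_induction with
    | mem z hz =>
      obtain ⟨f, hf, g, hg, rfl⟩ := hz
      rw [map_mul, hes', mul_comm]
      exact hFstab _ (heΓ g hg) f hf
    | zero => rw [map_zero]; exact F.zero_mem
    | add y z _ _ hy hz => rw [map_add]; exact F.add_mem hy hz
    | neg y _ hy => rw [map_neg]; exact F.neg_mem hy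
  -- the module `F'`
  let F' : Set A := {a | t a ∈ N}
  have hF'F : ∀ a ∈ F', a ∈ F := fun a ha => by rw [← het' a]; exact heN _ ha
  -- D is stable
  let D : AddSubgroup Γ₂ := AddSubgroup.closure {z | ∃ n ∈ N, ∃ g : Γ₀, z = p n * q (Γ₀.subtype g)}
  have hDstab : ∀ x ∈ R2 s p q Γ₀ (B₁ : Set A), ∀ y ∈ D, x * y ∈ D := by
    intro x hx
    induction hx using Subring.closure_induction with
    | mem x hx =>
      intro y hy
      induction hy using AddSubgroup.closure_induction with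
      | mem z hz =>
        obtain ⟨n, hn, g, rfl⟩ := hz
        rcases hx with ⟨b, hb, rfl⟩ | ⟨g', hg', rfl⟩
        · refine AddSubgroup.subset_closure ⟨b * n, hNstab b hb n hn, g, ?_⟩
          rw [map_mul, mul_assoc]
        · refine AddSubgroup.subset_closure ⟨n, hn, ⟨g', hg'⟩ * g, ?_⟩
          rw [map_mul, map_mul, Subring.subtype_apply, Subring.subtype_apply]
          ring
      | zero => rw [mul_zero]; exact AddSubgroup.zero_mem _
      | add y z _ _ hy hz => rw [mul_add]; exact AddSubgroup.add_mem _ hy hz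
      | neg y _ hy => rw [mul_neg]; exact AddSubgroup.neg_mem _ hy
    | zero => intro y _; rw [zero_mul]; exact AddSubgroup.zero_mem _
    | one => intro y hy; rwa [one_mul]
    | add x x' _ _ hx hx' => intro y hy; rw [add_mul]; exact AddSubgroup.add_mem _ (hx y hy) (hx' y hy)
    | neg x _ hx => intro y hy; rw [neg_mul]; exact AddSubgroup.neg_mem _ (hx y hy)
    | mul x x' _ _ hx hx' => intro y hy; rw [mul_assoc]; exact hx _ (hx' y hy)
  have hmN : ∀ y ∈ N, m y ∈ D := by
    intro y hy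
    induction hy using AddSubgroup.closure_induction with
    | mem z hz =>
      obtain ⟨f, hf, g, hg, rfl⟩ := hz
      rw [map_mul, hms', mul_comm]
      refine hDstab _ (hmΓ g hg) _ (AddSubgroup.subset_closure ⟨s f, ?_, 1, by simp⟩)
      exact AddSubgroup.subset_closure ⟨f, hf, 1, Γ₀.one_mem, by rw [mul_one]⟩
    | zero => rw [map_zero]; exact AddSubgroup.zero_mem _
    | add y z _ _ hy hz => rw [map_add]; exact AddSubgroup.add_mem _ hy hz
    | neg y _ hy => rw [map_neg]; exact AddSubgroup.neg_mem _ hy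
  -- the key step
  have hkey : ∀ a ∈ F', t a ∈ sp s Γ₀ F' := by
    intro a ha
    have h5 : q (t a) ∈ D := by rw [← hmt']; exact hmN _ ha
    have h6 := key hpo0 hpo hfl N (fun a n hn => hNstab _ (htA a.1 a.2) n hn) (t a) h5
    refine AddSubgroup.closure_mono ?_ h6
    rintro z ⟨f, hf, g, rfl⟩
    exact ⟨f, hf, g.1, g.2, rfl⟩
  -- the ring
  let B : Subring A := Subring.closure (A₀ ∪ F')
  have hF'B : F' ⊆ (B : Set A) := fun x hx => Subring.subset_closure (Or.inr hx)
  have hA₀B : A₀ ≤ B := fun x hx => Subring.subset_closure (Or.inl hx)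
  have hB₁B : B₁ ≤ B := by
    rw [Subring.closure_le]
    exact fun x hx => hF'B (hXN x hx)
  haveI : IsNoetherianRing B₁ := by
    have h7 : (Int.castRingHom B₁).FiniteType := ft_closure hX₁
    rw [← algebraMap_int_eq, RingHom.finiteType_algebraMap] at h7
    exact Algebra.FiniteType.isNoetherianRing ℤ B₁
  haveI : IsNoetherian B₁ F := isNoetherian_of_fg_of_noetherian F hFfg
  have hspan : (Submodule.span B₁ F').FG :=
    Submodule.FG.of_le hFfg (Submodule.span_le.2 hF'F)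
  obtain ⟨Y, hYF, hYs⟩ := Submodule.fg_span_iff_fg_span_finset_subset (R := B₁) F' |>.1 hspan
  have h9 : ∀ x ∈ Submodule.span B₁ (Y : Set A), x ∈ Subring.closure (X₁ ∪ (Y : Set A)) := by
    intro x hx
    induction hx using Submodule.span_induction with
    | mem y hy => exact Subring.subset_closure (Or.inr hy)
    | zero => exact Subring.zero_mem _
    | add y z _ _ hy hz => exact Subring.add_mem _ hy hz
    | smul b y _ hy => exact Subring.mul_mem _ (Subring.closure_mono Set.subset_union_left b.2) hy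
  have hBfin : B = Subring.closure (X₁ ∪ (Y : Set A)) := by
    apply le_antisymm
    · rw [Subring.closure_le]
      rintro x (hx | hx)
      · exact Subring.closure_mono Set.subset_union_left (hAB hx)
      · exact h9 x (by rw [← hYs]; exact Submodule.subset_span hx)
    · rw [Subring.closure_le]
      rintro x (hx | hx)
      · exact hF'B (hXN x hx)
      · exact hF'B (hYF hx)
  have hGG : ∀ g ∈ GB s Γ₀ (B₁ : Set A), g ∈ GB s Γ₀ (B : Set A) := fun g hg => GB_mono hB₁B hg
  have hsB : ∀ b ∈ B, s b ∈ GB s Γ₀ (B : Set A) := fun b hb => Subring.subset_closure (Or.inl ⟨b, hb, rfl⟩)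
  have htB : ∀ b ∈ B, t b ∈ GB s Γ₀ (B : Set A) := by
    intro b hb
    induction hb using Subring.closure_induction with
    | mem a ha =>
      rcases ha with ha | ha
      · exact hGG _ (htA a ha)
      · exact GB_mono hF'B (sp_le_GB _ (hkey a ha))
    | zero => rw [map_zero]; exact Subring.zero_mem _
    | one => rw [map_one]; exact Subring.one_mem _
    | add x y _ _ hx hy => rw [map_add]; exact Subring.add_mem _ hx hy
    | neg x _ hx => rw [map_neg]; exact Subring.neg_mem _ hx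
    | mul x y _ _ hx hy => rw [map_mul]; exact Subring.mul_mem _ hx hy
  -- an induction principle
  have ind' : ∀ {T : Type u} [CommRing T] (φ : Γ →+* T) (T' : Subring T), (∀ b ∈ B, φ (s b) ∈ T') →
      (∀ g ∈ Γ₀, φ g ∈ T') → ∀ g ∈ GB s Γ₀ (B : Set A), φ g ∈ T' := by
    intro T _ φ T' ha hy g hg
    have h1 : GB s Γ₀ (B : Set A) ≤ T'.comap φ := by
      rw [GB, Subring.closure_le]
      rintro x (⟨a, ha', rfl⟩ | hx)
      · exact ha a ha'
      · exact hy x hx
    exact h1 hg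
  refine ⟨B, hA₀B, ?_, htB, ?_, ?_, ?_⟩
  · rw [hBfin]
    exact ft_closure (hX₁.union Y.finite_toSet)
  · exact ind' e B (fun b hb => by rw [hes']; exact hb) (fun g hg => hB₁B (heΓ g hg))
  · exact ind' ι _ (fun b hb => by rw [hιs']; exact htB b hb) (fun g hg => hGG _ (hιΓ g hg))
  · refine ind' m _ (fun b hb => ?_) (fun g hg => ?_)
    · rw [hms']
      exact Subring.subset_closure (Or.inl ⟨s b, hsB b hb, rfl⟩)
    · refine Subring.closure_mono ?_ (hmΓ g hg)
      rintro z (⟨x, hx, rfl⟩ | ⟨x, hx, rfl⟩)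
      · exact Or.inl ⟨x, hGG x hx, rfl⟩
      · exact Or.inr ⟨x, Subring.subset_closure (Or.inr hx), rfl⟩

end EF473
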